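import Cfsg.Agent.Lib.Components.Fitting

/-! Elements of coprime order in nilpotent groups; `p`-elements of the Fitting subgroup. -/

set_option autoImplicit false

namespace Cfsg.Agent.Subnormal

open Subgroup

variable {G : Type*} [Group G] [Finite G]

/-- In a nilpotent group a Sylow subgroup and its centralizer generate. -/
theorem sylow_sup_centralizer [Group.IsNilpotent G] {p : ℕ} [Fact p.Prime] (P : Sylow p G) :
    (P : Subgroup G) ⊔ centralizer ((P : Subgroup G) : Set G) = ⊤ := by
  refine Components.eq_top_of_forall_sylow fun q hq _ => ?_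
  have := Fact.mk hq
  let Q : Sylow q G := default
  by_cases h : q = p
  · subst h
    exact ⟨P, le_sup_left⟩
  · refine ⟨Q, le_trans ?_ le_sup_right⟩
    intro x hx
    rw [mem_centralizer_iff]
    intro y hy
    exact (commute_of_normal_of_disjoint (P : Subgroup G) (Q : Subgroup G) inferInstance inferInstance
      (IsPGroup.disjoint_of_ne _ _ (Ne.symm h) _ _ P.isPGroup' Q.isPGroup') y x hy hx).eq

/-- In a nilpotent group a `p`-element commutes with every element of order prime to `p`. -/
theorem commute_of_coprime [Group.IsNilpotent G] {p k : ℕ} [hp : Fact p.Prime] {u y : G}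
    (hu : u ^ p ^ k = 1) (hy : (orderOf y).Coprime p) : Commute y u := by
  obtain ⟨P, hP⟩ := (IsPGroup.of_card (show Nat.card ↥(zpowers u) = p ^ _ from
    (Nat.card_zpowers u).trans ((Nat.dvd_prime_pow hp.out).mp (orderOf_dvd_of_pow_eq_one hu)).choose_spec.2)
    ).exists_le_sylow
  have huP : u ∈ (P : Subgroup G) := hP (mem_zpowers u)
  set C := centralizer ((P : Subgroup G) : Set G) with hC
  have : C.Normal := inferInstanceAs (centralizer _).Normal
  have hyP : QuotientGroup.mk' C y ∈ (P : Subgroup G).map (QuotientGroup.mk' C) := by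
    have h1 : y ∈ (P : Subgroup G) ⊔ C := sylow_sup_centralizer P ▸ mem_top y
    have h2 := mem_map_of_mem (QuotientGroup.mk' C) h1
    rwa [Subgroup.map_sup, QuotientGroup.map_mk'_self, sup_bot_eq] at h2
  obtain ⟨j, hj⟩ := (P.isPGroup'.map (QuotientGroup.mk' C)) ⟨_, hyP⟩
  have h3 : orderOf (QuotientGroup.mk' C y) = 1 := by
    refine Nat.eq_one_of_dvd_coprimes (hy.pow_right j) (orderOf_map_dvd _ y)
      (orderOf_dvd_of_pow_eq_one (congrArg Subtype.val hj))
  have h4 : y ∈ C := (QuotientGroup.eq_one_iff y).mp (orderOf_eq_one_iff.mp h3)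
  exact (mem_centralizer_iff.mp h4 u huP).symm

/-- A `p`-element of the Fitting subgroup lies in `O_p(G)`. -/
theorem mem_pCore_of_mem_fittingSubgroup {p k : ℕ} [hp : Fact p.Prime] {u : G}
    (hF : u ∈ fittingSubgroup G) (hu : u ^ p ^ k = 1) : u ∈ pCore p G := by
  obtain ⟨P, hP⟩ := (IsPGroup.of_card (show Nat.card ↥(zpowers (⟨u, hF⟩ : ↥(fittingSubgroup G))) = p ^ _
    from (Nat.card_zpowers _).trans ((Nat.dvd_prime_pow hp.out).mp
      (orderOf_dvd_of_pow_eq_one (Subtype.ext hu))).choose_spec.2)).exists_le_sylow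
  have := Components.fittingSubgroup_normal G
  have hc : (P : Subgroup (fittingSubgroup G)).Characteristic :=
    P.characteristic_of_normal inferInstance
  exact (le_sSup ⟨ConjAct.normal_of_characteristic_of_normal, P.isPGroup'.map _⟩ :
    (P : Subgroup (fittingSubgroup G)).map (fittingSubgroup G).subtype ≤ pCore p G)
    ⟨_, hP (mem_zpowers _), rfl⟩

end Cfsg.Agent.Subnormal
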