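import Mathlib

/-!
# Subnormal subgroups of finite groups: conjugates, the zig lemma, Wielandt's join theorem

* `cj g H` : the conjugate `g H g⁻¹`; `cl W A` : the subgroup generated by the `W`-conjugates of `A`
* `SN A Q` : `A ≤ Q` and `A` is subnormal in `Q`
* `exists_cj_of_not_normal`, `exists_cj_of_not_le_normalizer` : zig lemma
* `isSubnormal_sup`, `isSubnormal_sSup`, `sn_sSup` : Wielandt's join theorem
-/

set_option autoImplicit false

namespace Cfsg.Agent.Subnormal

variable {G : Type*} [Group G]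

/-- The conjugate `g H g⁻¹`. -/
abbrev cj (g : G) (H : Subgroup G) : Subgroup G := H.map (MulAut.conj g).toMonoidHom

theorem mem_cj {g x : G} {H : Subgroup G} : x ∈ cj g H ↔ g⁻¹ * x * g ∈ H := by
  constructor
  · rintro ⟨y, hy, rfl⟩
    simpa [mul_assoc] using hy
  · intro h
    exact ⟨_, h, by simp [mul_assoc]⟩

theorem conj_mem_cj {g x : G} {H : Subgroup G} (h : x ∈ H) : g * x * g⁻¹ ∈ cj g H :=
  ⟨x, h, rfl⟩

theorem cj_mul (g h : G) (H : Subgroup G) : cj (g * h) H = cj g (cj h H) := by
  ext x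
  simp [mem_cj, mul_assoc]

@[simp] theorem cj_one (H : Subgroup G) : cj 1 H = H := by
  ext x
  simp [mem_cj]

theorem cj_inv_cj (g : G) (H : Subgroup G) : cj g⁻¹ (cj g H) = H := by
  rw [← cj_mul, inv_mul_cancel, cj_one]

theorem cj_cj_inv (g : G) (H : Subgroup G) : cj g (cj g⁻¹ H) = H := by
  rw [← cj_mul, mul_inv_cancel, cj_one]

theorem cj_mono {g : G} {H K : Subgroup G} (h : H ≤ K) : cj g H ≤ cj g K := Subgroup.map_mono h

theorem cj_injective (g : G) : Function.Injective (cj g) := fun H K h => by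
  rw [← cj_inv_cj g H, h, cj_inv_cj]

theorem card_cj (g : G) (H : Subgroup G) : Nat.card ↥(cj g H) = Nat.card ↥H :=
  Subgroup.card_map_of_injective (MulAut.conj g).injective

theorem eq_of_cj_le [Finite G] {g : G} {H : Subgroup G} (h : cj g H ≤ H) : cj g H = H :=
  Subgroup.eq_of_le_of_card_ge h (card_cj g H).ge

theorem mem_normalizer_of_cj_le [Finite G] {g : G} {H : Subgroup G} (h : cj g H ≤ H) :
    g ∈ Subgroup.normalizer (H : Set G) := by
  have he := eq_of_cj_le h
  rw [Subgroup.mem_normalizer_iff'']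
  intro x
  conv_lhs => rw [← he]
  exact mem_cj

theorem cj_eq_of_mem_normalizer {g : G} {H : Subgroup G}
    (h : g ∈ Subgroup.normalizer (H : Set G)) : cj g H = H := by
  ext x
  rw [mem_cj]
  exact (Subgroup.mem_normalizer_iff''.mp h x).symm

theorem cj_eq_of_mem {g : G} {H : Subgroup G} (h : g ∈ H) : cj g H = H :=
  cj_eq_of_mem_normalizer (Subgroup.le_normalizer h)

theorem mem_normalizer_of_cj_eq {g : G} {H : Subgroup G} (h : cj g H = H) :
    g ∈ Subgroup.normalizer (H : Set G) := by
  rw [Subgroup.mem_normalizer_iff'']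
  intro x
  conv_lhs => rw [← h]
  exact mem_cj

/-- The subgroup generated by the `W`-conjugates of `A`. -/
def cl (W A : Subgroup G) : Subgroup G := ⨆ w : W, cj (w : G) A

theorem cj_le_cl {W A : Subgroup G} {w : G} (hw : w ∈ W) : cj w A ≤ cl W A :=
  le_iSup (fun w : W => cj (w : G) A) ⟨w, hw⟩

theorem le_cl (W A : Subgroup G) : A ≤ cl W A := by
  simpa using cj_le_cl (A := A) (one_mem W)

theorem cl_le_of {W A B : Subgroup G} (h : ∀ w ∈ W, cj w A ≤ B) : cl W A ≤ B :=
  iSup_le fun w => h w w.2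

theorem cl_le {W A : Subgroup G} (h : A ≤ W) : cl W A ≤ W :=
  cl_le_of fun w hw => (cj_mono h).trans (cj_eq_of_mem hw).le

theorem cl_mono {W W' A A' : Subgroup G} (hW : W ≤ W') (hA : A ≤ A') : cl W A ≤ cl W' A' :=
  cl_le_of fun _ hw => (cj_mono hA).trans (cj_le_cl (hW hw))

theorem cj_cl_le [Finite G] {W A : Subgroup G} {g : G} (h : ∀ w ∈ W, cj (g * w) A ≤ cl W A) :
    g ∈ Subgroup.normalizer (cl W A : Set G) := by
  refine mem_normalizer_of_cj_le ?_
  rw [cj, cl, Subgroup.map_iSup]
  exact iSup_le fun w => (cj_mul g w A).ge.trans (h w w.2)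

theorem le_normalizer_cl [Finite G] (W A : Subgroup G) :
    W ≤ Subgroup.normalizer (cl W A : Set G) :=
  fun _ hg => cj_cl_le fun _ hw => cj_le_cl (mul_mem hg hw)

theorem mem_normalizer_cl [Finite G] {W A : Subgroup G} {g : G}
    (hW : g ∈ Subgroup.normalizer (W : Set G)) (hA : g ∈ Subgroup.normalizer (A : Set G)) :
    g ∈ Subgroup.normalizer (cl W A : Set G) :=
  cj_cl_le fun w hw => by
    have h1 : g * w * g⁻¹ ∈ W := (Subgroup.mem_normalizer_iff.mp hW w).mp hw
    have h2 : cj (g * w) A = cj (g * w * g⁻¹) A := by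
      conv_lhs => rw [show g * w = (g * w * g⁻¹) * g by group, cj_mul, cj_eq_of_mem_normalizer hA]
    exact h2.le.trans (cj_le_cl h1)

theorem cl_top_eq_normalClosure (A : Subgroup G) :
    cl ⊤ A = Subgroup.normalClosure (A : Set G) := by
  refine le_antisymm (cl_le_of fun w _ => ?_) ?_
  · rintro _ ⟨a, ha, rfl⟩
    exact Subgroup.normalClosure_normal.conj_mem a (Subgroup.subset_normalClosure ha) w
  · refine Subgroup.closure_le _ |>.mpr ?_
    intro x hx
    obtain ⟨a, ha, hc⟩ := Group.mem_conjugatesOfSet_iff.mp hx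
    obtain ⟨c, rfl⟩ := isConj_iff.mp hc
    exact cj_le_cl (Subgroup.mem_top c) (conj_mem_cj ha)

theorem map_subtype_cl {W : Subgroup G} (X A : Subgroup ↥W) :
    (cl X A).map W.subtype = cl (X.map W.subtype) (A.map W.subtype) := by
  have hconj : ∀ w : ↥W, (cj w A).map W.subtype = cj (w : G) (A.map W.subtype) := fun w => by
    rw [cj, cj, Subgroup.map_map, Subgroup.map_map]
    congr 1
  refine le_antisymm ?_ (cl_le_of ?_)
  · rw [cl, Subgroup.map_iSup]
    exact iSup_le fun w => (hconj w).le.trans (cj_le_cl (Subgroup.mem_map_of_mem _ w.2))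
  · rintro _ ⟨w, hw, rfl⟩
    exact (hconj w).ge.trans (Subgroup.map_mono (cj_le_cl hw))

/-- `cl W A` in terms of the normal closure inside `W`. -/
theorem map_subtype_normalClosure {W A : Subgroup G} (h : A ≤ W) :
    (Subgroup.normalClosure ((A.subgroupOf W : Subgroup ↥W) : Set ↥W)).map W.subtype = cl W A := by
  rw [← cl_top_eq_normalClosure, map_subtype_cl, ← MonoidHom.range_eq_map, Subgroup.range_subtype,
    Subgroup.map_subgroupOf_eq_of_le h]

/-- `A` is contained in `Q` and subnormal in it. -/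
def SN (A Q : Subgroup G) : Prop := A ≤ Q ∧ (A.subgroupOf Q).IsSubnormal

theorem sn_refl (A : Subgroup G) : SN A A := ⟨le_rfl, by simp⟩

theorem sn_top_iff {A : Subgroup G} : SN A ⊤ ↔ A.IsSubnormal := by
  refine ⟨fun h => h.2.trans le_top Subgroup.IsSubnormal.top, fun h => ⟨le_top, h.subgroupOf⟩⟩

theorem sn_of_isSubnormal {A Q : Subgroup G} (h : A ≤ Q) (hA : A.IsSubnormal) : SN A Q :=
  ⟨h, hA.subgroupOf⟩

theorem sn_of_le_of_normalizer {A Q : Subgroup G} (h : A ≤ Q)
    (hn : Q ≤ Subgroup.normalizer (A : Set G)) : SN A Q :=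
  ⟨h, ((Subgroup.normal_subgroupOf_iff_le_normalizer h).mpr hn).isSubnormal⟩

theorem sn_mono {A Q R : Subgroup G} (h : SN A R) (hAQ : A ≤ Q) (hQR : Q ≤ R) : SN A Q :=
  ⟨hAQ, by
    have := h.2.comap (Subgroup.inclusion hQR)
    rwa [← Subgroup.comap_subtype, Subgroup.comap_comap, Subgroup.subtype_comp_inclusion,
      Subgroup.comap_subtype] at this⟩

theorem sn_trans {A B Q : Subgroup G} (h : SN A B) (h' : SN B Q) : SN A Q := by
  refine ⟨h.1.trans h'.1, Subgroup.IsSubnormal.trans (K := B.subgroupOf Q) ?_ ?_ h'.2⟩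
  · exact fun x hx => h.1 hx
  · have := h.2.comap ((Subgroup.subgroupOfEquivOfLe h'.1).toMonoidHom)
    exact this

theorem sn_cj {A Q : Subgroup G} (g : G) (h : SN A Q) : SN (cj g A) (cj g Q) := by
  refine ⟨cj_mono h.1, ?_⟩
  let e : ↥(cj g Q) ≃* ↥Q := (Q.equivMapOfInjective _ (MulAut.conj g).injective).symm
  have hcomap := h.2.comap e.toMonoidHom
  convert hcomap using 1
  ext x
  simp only [Subgroup.mem_subgroupOf, Subgroup.mem_comap]
  rw [mem_cj]
  have hx : ((e x : ↥Q) : G) = g⁻¹ * (x : G) * g := by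
    have h2 := congrArg Subtype.val (e.symm_apply_apply x)
    change g * ((e x : ↥Q) : G) * g⁻¹ = (x : G) at h2
    rw [← h2]
    group
  rw [← hx]
  rfl

/-- A subnormal subgroup which is not normal has a conjugate, different from it, normalising it. -/
theorem exists_cj_of_not_normal {H : Subgroup G} (hH : H.IsSubnormal) (hn : ¬ H.Normal) :
    ∃ g : G, cj g H ≠ H ∧ cj g H ≤ Subgroup.normalizer (H : Set G) := by
  suffices key : ∀ K : Subgroup G, K.IsSubnormal → ∀ H : Subgroup G, H ≤ K →
      K ≤ Subgroup.normalizer (H : Set G) → ¬ H.Normal →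
      ∃ g : G, cj g H ≠ H ∧ cj g H ≤ Subgroup.normalizer (H : Set G) from
    key H hH H le_rfl Subgroup.le_normalizer hn
  intro K hK
  induction hK with
  | top =>
    intro H _ hle hn
    exact absurd (Subgroup.normalizer_eq_top_iff.mp (top_le_iff.mp hle)) hn
  | step K L hKL _ hN ih =>
    intro H hHK hKH hn
    by_cases hL : L ≤ Subgroup.normalizer (H : Set G)
    · exact ih H (hHK.trans hKL) hL hn
    · obtain ⟨g, hgL, hg⟩ := Set.not_subset.mp hL
      refine ⟨g, fun he => hg (mem_normalizer_of_cj_eq he), ?_⟩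
      have hgK := (Subgroup.normal_subgroupOf_iff_le_normalizer hKL).mp hN hgL
      exact ((cj_mono hHK).trans (cj_eq_of_mem_normalizer hgK).le).trans hKH

/-- Relative zig lemma. -/
theorem exists_cj_of_not_le_normalizer {S P : Subgroup G} (h : SN S P)
    (hn : ¬ P ≤ Subgroup.normalizer (S : Set G)) :
    ∃ z ∈ P, cj z S ≠ S ∧ cj z S ≤ Subgroup.normalizer (S : Set G) ⊓ P := by
  have hnn : ¬ (S.subgroupOf P).Normal := fun hh =>
    hn ((Subgroup.normal_subgroupOf_iff_le_normalizer h.1).mp hh)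
  obtain ⟨z, hz1, hz2⟩ := exists_cj_of_not_normal h.2 hnn
  have hmap : (cj z (S.subgroupOf P)).map P.subtype = cj (z : G) S := by
    rw [cj, Subgroup.map_map]
    calc (S.subgroupOf P).map (P.subtype.comp (MulAut.conj z).toMonoidHom)
        = ((S.subgroupOf P).map P.subtype).map (MulAut.conj (z : G)).toMonoidHom := by
          rw [Subgroup.map_map]; congr 1
      _ = _ := by rw [Subgroup.map_subgroupOf_eq_of_le h.1]
  refine ⟨z, z.2, fun he => hz1 ?_, ?_⟩
  · refine Subgroup.map_injective P.subtype_injective ?_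
    rw [hmap, he, Subgroup.map_subgroupOf_eq_of_le h.1]
  · rw [← hmap]
    refine le_inf ((Subgroup.map_mono hz2).trans ((Subgroup.le_normalizer_map _).trans ?_))
      (Subgroup.map_subtype_le _)
    rw [Subgroup.map_subgroupOf_eq_of_le h.1]

variable [Finite G]

/-- If `A` is subnormal, proper in `W`, then so is `cl W A`. -/
theorem cl_lt {W A : Subgroup G} (h : SN A W) (hne : A ≠ W) : cl W A < W := by
  refine lt_of_le_of_ne (cl_le h.1) fun he => ?_
  have hne' : A.subgroupOf W ≠ ⊤ := fun ht => hne (le_antisymm h.1 (Subgroup.subgroupOf_eq_top.mp ht))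
  obtain ⟨K, hK, hAK, hlt⟩ := h.2.exists_normal_and_le_and_lt_top_of_ne hne'
  have hle : Subgroup.normalClosure ((A.subgroupOf W : Subgroup ↥W) : Set ↥W) ≤ K :=
    Subgroup.normalClosure_le_normal hAK
  have := Subgroup.map_mono (f := W.subtype) hle
  rw [map_subtype_normalClosure h.1, he] at this
  exact hlt.ne (top_unique fun x _ => by
    obtain ⟨y, hy, hxy⟩ := this x.2
    exact W.subtype_injective hxy ▸ hy)

/-- Join of a subnormal subgroup and a subnormal subgroup normalising it. -/
theorem isSubnormal_sup_of_le_normalizer {A B : Subgroup G} (hA : A.IsSubnormal)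
    (hB : B.IsSubnormal) (hBA : B ≤ Subgroup.normalizer (A : Set G)) : (A ⊔ B).IsSubnormal := by
  suffices key : ∀ n, ∀ H : Subgroup G, Nat.card ↥H = n → A ≤ H →
      B ≤ Subgroup.normalizer (H : Set G) → (H ⊔ B).IsSubnormal → (A ⊔ B).IsSubnormal from
    key _ ⊤ rfl le_top (by intro x _; exact Subgroup.mem_normalizer_iff.mpr fun _ => by simp)
      (by simp)
  intro n
  induction n using Nat.strong_induction_on with
  | _ n ih =>
    intro H hn hAH hBH hHB
    rcases eq_or_ne A H with rfl | hne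
    · exact hHB
    set C := cl H A with hC
    have hlt : C < H := cl_lt (sn_of_isSubnormal hAH hA) hne
    have hBC : B ≤ Subgroup.normalizer (C : Set G) := fun b hb => mem_normalizer_cl (hBH hb) (hBA hb)
    have hLC : H ⊔ B ≤ Subgroup.normalizer (C : Set G) := sup_le (le_normalizer_cl H A) hBC
    set L := H ⊔ B with hL
    have hCL : C ≤ L := hlt.le.trans le_sup_left
    have : (C.subgroupOf L).Normal := (Subgroup.normal_subgroupOf_iff_le_normalizer hCL).mpr hLC
    have hsn : (C.subgroupOf L ⊔ B.subgroupOf L).IsSubnormal := by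
      have h1 := ((hB.subgroupOf (K := L)).quotient (K := C.subgroupOf L)).comap
        (QuotientGroup.mk' (C.subgroupOf L))
      rwa [Subgroup.comap_map_eq, QuotientGroup.ker_mk', sup_comm] at h1
    have hsn' : (C ⊔ B).IsSubnormal := by
      have h2 := hsn.trans' hHB
      rwa [Subgroup.map_sup, Subgroup.map_subgroupOf_eq_of_le hCL,
        Subgroup.map_subgroupOf_eq_of_le le_sup_right] at h2
    refine ih _ (hn ▸ ?_) C rfl (le_cl H A) hBC hsn'
    by_contra! hcon
    exact hlt.ne (Subgroup.eq_of_le_of_card_ge hlt.le hcon)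

/-- A join of finitely many, with the binary case given. -/
theorem isSubnormal_biSup {ι : Type*} (s : Finset ι) (f : ι → Subgroup G) (N : Subgroup G)
    (hN : ∀ X Y : Subgroup G, X ≤ N → Y ≤ N → X.IsSubnormal → Y.IsSubnormal → (X ⊔ Y).IsSubnormal)
    (hf : ∀ i ∈ s, f i ≤ N) (h : ∀ i ∈ s, (f i).IsSubnormal) :
    (s.sup f).IsSubnormal := by
  classical
  induction s using Finset.induction with
  | empty => simp
  | insert a t _ ih =>
    rw [Finset.sup_insert]
    have hf' : ∀ i ∈ t, f i ≤ N := fun i hi => hf i (Finset.mem_insert_of_mem hi)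
    exact hN _ _ (hf a (Finset.mem_insert_self a t)) (Finset.sup_le hf')
      (h a (Finset.mem_insert_self a t)) (ih hf' fun i hi => h i (Finset.mem_insert_of_mem hi))

/-- Wielandt's join theorem. -/
theorem isSubnormal_sup {A B : Subgroup G} (hA : A.IsSubnormal) (hB : B.IsSubnormal) :
    (A ⊔ B).IsSubnormal := by
  classical
  suffices key : ∀ n, ∀ H : Subgroup G, Nat.card ↥H = n → ∀ A B : Subgroup G, A ≤ H → B ≤ H →
      A.IsSubnormal → B.IsSubnormal → (A ⊔ B).IsSubnormal from
    key _ ⊤ rfl A B le_top le_top hA hB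
  clear A B hA hB
  intro n
  induction n using Nat.strong_induction_on with
  | _ n ih =>
    intro H hn A B hAH hBH hA hB
    rcases eq_or_ne A H with rfl | hne
    · rwa [sup_eq_left.mpr hBH]
    set N := cl H A with hN
    have hlt : Nat.card ↥N < n := by
      by_contra! hcon
      exact (cl_lt (sn_of_isSubnormal hAH hA) hne).ne
        (Subgroup.eq_of_le_of_card_ge (cl_le hAH) (hn ▸ hcon))
    have hT : (cl B A).IsSubnormal := by
      have : Fintype ↥B := Fintype.ofFinite _
      have hsup : cl B A = Finset.univ.sup (fun b : ↥B => cj (b : G) A) :=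
        (Finset.sup_univ_eq_iSup _).symm
      rw [hsup]
      exact isSubnormal_biSup _ _ N (fun X Y hX hY => ih _ hlt N rfl X Y hX hY)
        (fun b _ => cj_le_cl (hBH b.2)) (fun b _ => hA.map (MulAut.conj (b : G)).surjective)
    have := isSubnormal_sup_of_le_normalizer hT hB (le_normalizer_cl B A)
    have he : cl B A ⊔ B = A ⊔ B := by
      refine le_antisymm (sup_le (cl_le_of fun b hb => ?_) le_sup_right)
        (sup_le ((le_cl B A).trans le_sup_left) le_sup_right)
      exact (cj_mono le_sup_left).trans (cj_eq_of_mem (Subgroup.mem_sup_right hb)).le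
    rwa [he] at this

theorem isSubnormal_finsetSup {ι : Type*} (s : Finset ι) (f : ι → Subgroup G)
    (h : ∀ i ∈ s, (f i).IsSubnormal) : (s.sup f).IsSubnormal :=
  isSubnormal_biSup s f ⊤ (fun _ _ _ _ hX hY => isSubnormal_sup hX hY) (fun _ _ => le_top) h

theorem isSubnormal_sSup {S : Set (Subgroup G)} (h : ∀ U ∈ S, U.IsSubnormal) :
    (sSup S).IsSubnormal := by
  have : sSup S = (Set.toFinite S).toFinset.sup id := by
    rw [Finset.sup_id_eq_sSup, Set.Finite.coe_toFinset]
  rw [this]
  exact isSubnormal_finsetSup _ _ (by simpa using h)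

theorem sn_sup {A B Q : Subgroup G} (hA : SN A Q) (hB : SN B Q) : SN (A ⊔ B) Q :=
  ⟨sup_le hA.1 hB.1, by
    rw [Subgroup.subgroupOf_sup hA.1 hB.1]
    exact isSubnormal_sup hA.2 hB.2⟩

theorem sn_sSup {S : Set (Subgroup G)} {Q : Subgroup G} (h : ∀ U ∈ S, SN U Q) : SN (sSup S) Q := by
  refine ⟨sSup_le fun U hU => (h U hU).1, ?_⟩
  have he : (sSup S).subgroupOf Q = sSup ((fun U => U.subgroupOf Q) '' S) := by
    refine Subgroup.map_injective Q.subtype_injective ?_
    rw [Subgroup.map_subgroupOf_eq_of_le (sSup_le fun U hU => (h U hU).1), sSup_image,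
      (Subgroup.gc_map_comap Q.subtype).l_iSup₂, sSup_eq_iSup]
    exact iSup_congr fun U => iSup_congr fun hU => (Subgroup.map_subgroupOf_eq_of_le (h U hU).1).symm
  rw [he]
  refine isSubnormal_sSup ?_
  rintro _ ⟨U, hU, rfl⟩
  exact (h U hU).2

end Cfsg.Agent.Subnormal
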