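/-
Sylow subgroups of a join of two subnormal subgroups: `P ∩ ⟨A, B⟩ = ⟨P ∩ A, P ∩ B⟩`.
-/
import Cfsg.Agent.Lib.Subnormal.Join
import Cfsg.Agent.Lib.LocalStructure.PClosed
import Cfsg.Agent.Lib.PRed.Norm
import Cfsg.Agent.Lib.Components.Wielandt
import Cfsg.Agent.Lib.Components.GenFitting
import Cfsg.Agent.Lib.Components.PComponents
import Cfsg.Agent.Lib.PCore.Basic
import Cfsg.Agent.S2820

set_option autoImplicit false

namespace Cfsg.Agent.SylowJoin

open Subgroup
open scoped commutatorElement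

universe u

variable {G : Type u} [Group G] [Finite G] {p : ℕ} [hp : Fact p.Prime]

/-- A Sylow subgroup meets a subnormal subgroup in a Sylow subgroup. -/
theorem not_dvd_relIndex_inf (P : Sylow p G) {A : Subgroup G} (hA : A.IsSubnormal) :
    ¬ p ∣ ((P : Subgroup G) ⊓ A).relIndex A := by
  induction hA with
  | top => rw [inf_top_eq, relIndex_top_right]; exact P.not_dvd_index
  | step H K hle _ hN ih =>
    have h := PRed.not_dvd_relIndex_inf (K := K) (P := (P : Subgroup G) ⊓ K) (L := H) inf_le_right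
      (P.2.to_le inf_le_left) ih hle ((normal_subgroupOf_iff_le_normalizer hle).1 hN)
    rwa [inf_assoc, inf_eq_right.2 hle] at h

theorem relIndex_dvd_of_le_normalizer {A X Y : Subgroup G} (hXY : X ≤ Y)
    (hY : Y ≤ normalizer (A : Set G)) : A.relIndex X ∣ A.relIndex Y := by
  haveI : (A.subgroupOf Y).Normal := normal_subgroupOf_of_le_normalizer hY
  have h := relIndex_dvd_index_of_normal (A.subgroupOf Y) (X.subgroupOf Y)
  rwa [relIndex_subgroupOf hXY] at h

theorem relIndex_sup_of_le_normalizer {A B : Subgroup G} (hB : B ≤ normalizer (A : Set G)) :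
    A.relIndex (A ⊔ B) = A.relIndex B := by
  have hle : A ⊔ B ≤ normalizer (A : Set G) := sup_le le_normalizer hB
  haveI : (A.subgroupOf (A ⊔ B)).Normal := normal_subgroupOf_of_le_normalizer hle
  have h := relIndex_sup_right (B.subgroupOf (A ⊔ B)) (A.subgroupOf (A ⊔ B))
  rw [← subgroupOf_sup le_sup_right le_sup_left, relIndex_subgroupOf le_sup_right,
    sup_comm B A, subgroupOf_self, relIndex_top_right] at h
  exact h

/-- The product case. -/
theorem inf_sup_le_of_le_normalizer (P : Sylow p G) {A B : Subgroup G} (hA : A.IsSubnormal)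
    (hB : B.IsSubnormal) (hBA : B ≤ normalizer (A : Set G)) :
    (P : Subgroup G) ⊓ (A ⊔ B) ≤ ((P : Subgroup G) ⊓ A) ⊔ ((P : Subgroup G) ⊓ B) := by
  set U := ((P : Subgroup G) ⊓ A) ⊔ ((P : Subgroup G) ⊓ B) with hU
  set W := (P : Subgroup G) ⊓ (A ⊔ B) with hW
  have hUW : U ≤ W := sup_le (inf_le_inf_left _ le_sup_left) (inf_le_inf_left _ le_sup_right)
  refine (eq_of_le_of_card_ge hUW ?_).ge
  set Q := (P : Subgroup G) ⊓ A with hQ
  -- `|W : Q| = |W : W ∩ A|`
  have hWA : A.relIndex W = Q.relIndex W := by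
    rw [← inf_relIndex_right A W, ← inf_relIndex_right Q W]
    congr 1
    rw [hQ, hW, inf_comm A, inf_assoc, inf_eq_right.2 (le_sup_left : A ≤ A ⊔ B),
      inf_eq_left.2 (inf_le_inf_left _ (le_sup_left : A ≤ A ⊔ B))]
  have h1 : A.relIndex W ∣ A.relIndex B := relIndex_sup_of_le_normalizer hBA ▸
    relIndex_dvd_of_le_normalizer inf_le_right (sup_le le_normalizer hBA)
  have h2 : A.relIndex ((P : Subgroup G) ⊓ B) * ((P : Subgroup G) ⊓ B).relIndex B =
      (((P : Subgroup G) ⊓ B) ⊓ A).relIndex (B ⊓ A) * A.relIndex B := by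
    rw [← inf_relIndex_left ((P : Subgroup G) ⊓ B) A,
      relIndex_mul_relIndex _ _ _ inf_le_left inf_le_right, ← inf_relIndex_left B A,
      relIndex_mul_relIndex _ _ _ (inf_le_inf_right _ inf_le_right) inf_le_left]
  have h3 : A.relIndex W ∣ A.relIndex ((P : Subgroup G) ⊓ B) * ((P : Subgroup G) ⊓ B).relIndex B :=
    h2 ▸ h1.mul_left _
  obtain ⟨k, hk⟩ := IsPGroup.iff_card.1 (P.2.to_le (inf_le_left : W ≤ P))
  obtain ⟨i, hi, hi'⟩ := (Nat.dvd_prime_pow hp.out).1 (hk ▸ relIndex_dvd_card A W)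
  have hy : A.relIndex W ∣ A.relIndex ((P : Subgroup G) ⊓ B) := by
    refine Nat.Coprime.dvd_of_dvd_mul_right ?_ h3
    rw [hi']
    exact (hp.out.coprime_iff_not_dvd.2 (not_dvd_relIndex_inf P hB)).pow_left i
  have h4 : A.relIndex ((P : Subgroup G) ⊓ B) ≤ Q.relIndex U := by
    have h5 : A.relIndex ((P : Subgroup G) ⊓ B) = Q.relIndex ((P : Subgroup G) ⊓ B) := by
      rw [← inf_relIndex_right A, ← inf_relIndex_right Q]
      congr 1
      rw [hQ]
      apply le_antisymm
      · exact le_inf (le_inf (inf_le_right.trans inf_le_left) inf_le_left) inf_le_right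
      · exact le_inf (inf_le_left.trans inf_le_right) inf_le_right
    rw [h5]
    exact relIndex_le_of_le_right le_sup_right
      (ne_zero_of_dvd_ne_zero Nat.card_pos.ne' (relIndex_dvd_card Q U))
  have hUc := relIndex_mul_relIndex (⊥ : Subgroup G) Q U bot_le le_sup_left
  have hWc := relIndex_mul_relIndex (⊥ : Subgroup G) Q W bot_le ((le_sup_left : Q ≤ U).trans hUW)
  simp only [relIndex_bot_left] at hUc hWc
  rw [← hUc, ← hWc]
  refine Nat.mul_le_mul_left _ (le_trans ?_ h4)
  rw [← hWA]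
  exact Nat.le_of_dvd (Nat.pos_of_ne_zero
    (ne_zero_of_dvd_ne_zero Nat.card_pos.ne' (relIndex_dvd_card A _))) hy

omit hp in
theorem le_normalizer_sSup {K : Subgroup G} {S : Set (Subgroup G)}
    (h : ∀ L ∈ S, K ≤ normalizer (L : Set G)) : K ≤ normalizer ((sSup S : Subgroup G) : Set G) := by
  intro g hg
  refine LocalStructure.mem_normalizer_of_map_conj_le ?_
  rw [Subgroup.map_le_iff_le_comap]
  refine sSup_le fun L hL => ?_
  rw [← Subgroup.map_le_iff_le_comap, LocalStructure.map_conj_eq_self (h L hL hg)]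
  exact le_sSup hL

theorem inf_sup_le_aux (n : ℕ) : ∀ (G : Type u) [Group G] [Finite G], Nat.card G = n →
    ∀ (P : Sylow p G) (A B : Subgroup G), A.IsSubnormal → B.IsSubnormal →
      (P : Subgroup G) ⊓ (A ⊔ B) ≤ ((P : Subgroup G) ⊓ A) ⊔ ((P : Subgroup G) ⊓ B) := by
  induction n using Nat.strong_induction_on with
  | _ n ih =>
  intro G _ _ hn P A B hA hB
  set U := ((P : Subgroup G) ⊓ A) ⊔ ((P : Subgroup G) ⊓ B) with hU
  by_cases hJ : A ⊔ B = ⊤
  swap
  · set J := A ⊔ B with hJd
    have hJs : J.IsSubnormal := Subnormal.isSubnormal_sup hA hB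
    have hPJ : IsPGroup p ↥(((P : Subgroup G) ⊓ J).subgroupOf J) :=
      (P.2.to_le inf_le_left).of_equiv (subgroupOfEquivOfLe inf_le_right).symm
    have hidx : ¬ p ∣ (((P : Subgroup G) ⊓ J).subgroupOf J).index := not_dvd_relIndex_inf P hJs
    let R : Sylow p ↥J := hPJ.toSylow hidx
    have hRmap : (R : Subgroup ↥J).map J.subtype = (P : Subgroup G) ⊓ J :=
      map_subgroupOf_eq_of_le inf_le_right
    have hlt : Nat.card ↥J < n := hn ▸ lt_of_le_of_ne (card_le_card_group J)
      fun h => hJ (eq_top_of_card_eq J h)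
    have h := map_mono (f := J.subtype) (ih _ hlt ↥J rfl R (A.subgroupOf J) (B.subgroupOf J)
      hA.subgroupOf hB.subgroupOf)
    rw [Subgroup.map_sup, Subgroup.map_inf _ _ _ J.subtype_injective,
      Subgroup.map_inf _ _ _ J.subtype_injective, Subgroup.map_inf _ _ _ J.subtype_injective,
      hRmap, Subgroup.map_sup, map_subgroupOf_eq_of_le (le_sup_left : A ≤ J),
      map_subgroupOf_eq_of_le (le_sup_right : B ≤ J)] at h
    refine (le_inf le_rfl inf_le_right).trans (h.trans (sup_le_sup ?_ ?_)) <;>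
      exact inf_le_inf_right _ inf_le_left
  rw [hJ, inf_top_eq]
  -- a normal subgroup with Sylow subgroup inside `U` suffices
  suffices hex : (P : Subgroup G) ≤ U ∨
      ∃ N : Subgroup G, N.Normal ∧ N ≠ ⊥ ∧ (P : Subgroup G) ⊓ N ≤ U by
    rcases hex with h | ⟨N, hNn, hN1, hPN⟩
    · exact h
    set π := QuotientGroup.mk' N with hπ
    have hπs : Function.Surjective π := QuotientGroup.mk'_surjective N
    set P' := P.mapSurjective hπs with hP'
    have hlt : Nat.card (G ⧸ N) < n := by
      rw [← hn, card_eq_card_quotient_mul_card_subgroup N]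
      exact lt_mul_of_one_lt_right Nat.card_pos
        (lt_of_le_of_ne Nat.card_pos fun e => hN1 (eq_bot_of_card_eq N e.symm))
    have h := ih _ hlt (G ⧸ N) rfl P' (A.map π) (B.map π) (hA.map hπs) (hB.map hπs)
    have hkey : ∀ X : Subgroup G, X.IsSubnormal →
        (P' : Subgroup (G ⧸ N)) ⊓ X.map π ≤ ((P : Subgroup G) ⊓ X).map π := by
      intro X hX
      have hle : ((P : Subgroup G) ⊓ X).map π ≤ (P' : Subgroup (G ⧸ N)) ⊓ X.map π :=
        le_inf (map_mono inf_le_left) (map_mono inf_le_right)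
      have hd : (((P : Subgroup G) ⊓ X).map π).relIndex (X.map π) ∣
          ((P : Subgroup G) ⊓ X).relIndex X := by
        have e : (((P : Subgroup G) ⊓ X).subgroupOf X).map (π.subgroupMap X) =
            (((P : Subgroup G) ⊓ X).map π).subgroupOf (X.map π) := by
          apply map_injective (X.map π).subtype_injective
          rw [Subgroup.map_map, map_subgroupOf_eq_of_le (map_mono inf_le_right),
            show (X.map π).subtype.comp (π.subgroupMap X) = π.comp X.subtype from rfl,
            ← Subgroup.map_map, map_subgroupOf_eq_of_le inf_le_right]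
        rw [relIndex, relIndex, ← e]
        exact index_map_dvd _ (π.subgroupMap_surjective X)
      have hne : ¬ p ∣ (((P : Subgroup G) ⊓ X).map π).relIndex ((P' : Subgroup _) ⊓ X.map π) :=
        fun hd' => not_dvd_relIndex_inf P hX
          ((hd'.trans (Dvd.intro _ (relIndex_mul_relIndex _ _ _ hle inf_le_right))).trans hd)
      obtain ⟨k, hk⟩ := IsPGroup.iff_card.1 ((P'.2.to_le (inf_le_left :
        (P' : Subgroup (G ⧸ N)) ⊓ X.map π ≤ P')))
      obtain ⟨i, -, hi⟩ := (Nat.dvd_prime_pow hp.out).1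
        (hk ▸ relIndex_dvd_card (((P : Subgroup G) ⊓ X).map π) _)
      rcases Nat.eq_zero_or_pos i with rfl | hi0
      · rw [pow_zero, relIndex_eq_one] at hi
        exact hi
      · exact absurd (hi ▸ dvd_pow_self p hi0.ne') hne
    rw [← Subgroup.map_sup, hJ, Subgroup.map_top_of_surjective π hπs, inf_top_eq] at h
    have h2 : (P' : Subgroup (G ⧸ N)) ≤ U.map π := by
      rw [hU, Subgroup.map_sup]
      exact h.trans (sup_le_sup (hkey A hA) (hkey B hB))
    intro x hx
    obtain ⟨y, hy, hyx⟩ := h2 (mem_map_of_mem π hx)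
    have hz : y⁻¹ * x ∈ N := (QuotientGroup.eq).1 hyx
    have hUP : U ≤ (P : Subgroup G) := sup_le inf_le_left inf_le_left
    have hz' : y⁻¹ * x ∈ U := hPN ⟨(P : Subgroup G).mul_mem ((P : Subgroup G).inv_mem (hUP hy)) hx, hz⟩
    simpa using U.mul_mem hy hz'
  by_cases hO : Cfsg.pPrimeCore p G = ⊥
  swap
  · exact Or.inr ⟨_, PCore.pPrimeCore_normal, hO, by
      rw [inf_eq_bot_of_coprime]
      · exact bot_le
      · obtain ⟨k, hk⟩ := IsPGroup.iff_card.1 P.2
        rw [hk]
        exact (PCore.coprime_card_pPrimeCore.symm).pow_left k⟩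
  set Q := Cfsg.pCore p G with hQd
  haveI hQn : Q.Normal := PCore.pCore_normal
  have hQP : Q ≤ (P : Subgroup G) := PCore.pCore_le_sylow P
  -- `U ∩ Q` is normal
  have hnorm : ∀ X : Subgroup G, X.IsSubnormal → (P : Subgroup G) ⊓ X ≤ U →
      X ≤ normalizer ((U ⊓ Q : Subgroup G) : Set G) := by
    intro X hX hXU
    set X₀ := LocalStructure.resOf p X with hX₀
    have hXX₀ : X₀ ≤ X := map_subtype_le _
    have hsub : X₀.IsSubnormal := Components.isSubnormal_of_normalized hX hXX₀
      (LocalStructure.le_normalizer_resOf p X)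
    have hQX : Q ≤ normalizer (X₀ : Set G) := by
      refine (S2820.result Q X₀ hQn.isSubnormal hsub (LocalStructure.isPGroup_pCore p) ?_).1
      exact le_antisymm (map_subtype_le _) (LocalStructure.resOf_le_iff.2 fun x hx hc =>
        LocalStructure.mem_resOf (LocalStructure.mem_resOf hx hc) hc)
    have hX₀n : X₀ ≤ normalizer ((U ⊓ Q : Subgroup G) : Set G) := by
      intro a ha
      refine LocalStructure.mem_normalizer_of_map_conj_le ?_
      rintro _ ⟨x, ⟨hxU, hxQ⟩, rfl⟩
      show a * x * a⁻¹ ∈ U ⊓ Q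
      have hc : ⁅a, x⁆ ∈ X₀ ⊓ Q := by
        refine ⟨?_, ?_⟩
        · rw [commutatorElement_def, mul_assoc, mul_assoc]
          exact mul_mem ha (by simpa [mul_assoc] using
            (mem_normalizer_iff.1 (hQX hxQ) a⁻¹).1 (inv_mem ha))
        · rw [commutatorElement_def]
          exact Q.mul_mem (hQn.conj_mem x hxQ a) (Q.inv_mem hxQ)
      have hcU : ⁅a, x⁆ ∈ U := hXU ⟨hQP hc.2, hXX₀ hc.1⟩
      have e : a * x * a⁻¹ = ⁅a, x⁆ * x := by rw [commutatorElement_def]; group
      rw [e]
      exact ⟨U.mul_mem hcU hxU, Q.mul_mem hc.2 hxQ⟩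
    have hPXn : (P : Subgroup G) ⊓ X ≤ normalizer ((U ⊓ Q : Subgroup G) : Set G) :=
      LocalStructure.le_normalizer_inf (hXU.trans le_normalizer) le_normalizer_of_normal
    have hSyl : LocalStructure.IsSylowIn p ((P : Subgroup G) ⊓ X) X :=
      LocalStructure.isSylowIn_map (((P.2.to_le (inf_le_left : (P : Subgroup G) ⊓ X ≤ P)).of_equiv
        (subgroupOfEquivOfLe inf_le_right).symm).toSylow (not_dvd_relIndex_inf P hX))
        |> fun h => by
          have e : (((P : Subgroup G) ⊓ X).subgroupOf X).map X.subtype = (P : Subgroup G) ⊓ X :=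
            map_subgroupOf_eq_of_le inf_le_right
          exact e ▸ h
    exact hSyl.resOf_sup.ge.trans (sup_le hX₀n hPXn)
  by_cases hUQ : U ⊓ Q = ⊥
  swap
  · refine Or.inr ⟨U ⊓ Q, ?_, hUQ, inf_le_right.trans inf_le_left⟩
    rw [← normalizer_eq_top_iff, eq_top_iff, ← hJ]
    exact sup_le (hnorm A hA le_sup_left) (hnorm B hB le_sup_right)
  by_cases hA1 : A = ⊥
  · refine Or.inl ?_
    rw [hA1, bot_sup_eq] at hJ
    rw [hU, hJ, inf_top_eq]
    exact le_sup_right
  obtain ⟨K, hK⟩ := (Set.toFinite {K : Subgroup G | K.IsSubnormal ∧ K ≠ ⊥ ∧ K ≤ A}).exists_minimal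
    ⟨A, hA, hA1, le_rfl⟩
  obtain ⟨hKs, hK1, hKA⟩ := hK.prop
  have hmin : ∀ M : Subgroup G, M < K → K ≤ normalizer (M : Set G) → ⁅M, K⁆ = ⊥ := by
    intro M hMK hn'
    have hM : M = ⊥ := by
      by_contra hM1
      exact hMK.not_ge (hK.le_of_le ⟨Components.isSubnormal_of_normalized hKs hMK.le hn', hM1,
        hMK.le.trans hKA⟩ hMK.le)
    rw [hM, Subgroup.commutator_bot_left]
  rcases Components.isNilpotent_or_isComponent hKs hK1 hmin with hnil | hcomp
  · exfalso
    obtain ⟨q, hq, hdvd⟩ := Nat.exists_prime_and_dvd (n := Nat.card ↥K)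
      (fun e => hK1 (eq_bot_of_card_eq K e))
    haveI := Fact.mk hq
    obtain ⟨x, hx⟩ := exists_prime_orderOf_dvd_card' (G := ↥K) q hdvd
    rw [← Subgroup.orderOf_coe] at hx
    haveI : Group.IsNilpotent (Cfsg.fittingSubgroup G) := Components.fittingSubgroup_isNilpotent G
    have hsub : (zpowers (x : G)).IsSubnormal := Components.isSubnormal_of_le_nilpotent
      (Components.fittingSubgroup_normal G)
      ((zpowers_le.2 x.2).trans (Components.le_fittingSubgroup_of_isSubnormal hKs))
    by_cases hqp : q = p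
    · subst hqp
      have hpg : IsPGroup q ↥(zpowers (x : G)) :=
        IsPGroup.iff_card.2 ⟨1, by rw [Nat.card_zpowers, hx, pow_one]⟩
      have h1 : (x : G) ∈ U ⊓ Q := by
        have hxQ : (x : G) ∈ Q :=
          LocalStructure.le_pCore_of_isSubnormal hsub hpg (mem_zpowers _)
        exact ⟨mem_sup_left ⟨hQP hxQ, hKA x.2⟩, hxQ⟩
      rw [hUQ, mem_bot] at h1
      rw [h1, orderOf_one] at hx
      exact hq.one_lt.ne hx
    · have h1 := Components.le_pPrimeCore_of_isSubnormal (p := p) hsub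
        (by rw [Nat.card_zpowers, hx]; exact (Nat.coprime_primes hq hp.out).2 hqp) (mem_zpowers _)
      rw [hO, mem_bot] at h1
      rw [h1, orderOf_one] at hx
      exact hq.one_lt.ne hx
  · right
    set C : Set (Subgroup G) := Set.range fun g : G => K.map (MulAut.conj g).toMonoidHom with hC
    have hCc : ∀ L ∈ C, Cfsg.IsComponent L := by
      rintro _ ⟨g, rfl⟩; exact Components.IsComponent.conj hcomp g
    set NA := sSup {L | L ∈ C ∧ L ≤ A} with hNA
    set NB := sSup {L | L ∈ C ∧ L ≤ B} with hNB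
    have hcase : ∀ L ∈ C, L ≤ NA ⊔ NB := by
      intro L hL
      rcases Components.IsComponent.le_or_commutator_eq_bot (hCc L hL) hA with h | h
      · exact (le_sSup (show L ∈ {L | L ∈ C ∧ L ≤ A} from ⟨hL, h⟩)).trans le_sup_left
      rcases Components.IsComponent.le_or_commutator_eq_bot (hCc L hL) hB with h' | h'
      · exact (le_sSup (show L ∈ {L | L ∈ C ∧ L ≤ B} from ⟨hL, h'⟩)).trans le_sup_right
      exfalso
      refine Components.IsComponent.ne_bot (hCc L hL) (eq_bot_iff.2 ?_)
      have h2 : ⁅L, (⊤ : Subgroup G)⁆ = ⊥ := hJ ▸ Components.commutator_sup_eq_bot h h'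
      rw [← Components.IsComponent.commutator_self (hCc L hL), ← h2]
      exact Subgroup.commutator_mono le_rfl le_top
    refine ⟨normalClosure (K : Set G), inferInstance,
      fun e => hK1 (eq_bot_iff.2 (le_normalClosure.trans e.le)), ?_⟩
    have hN : normalClosure (K : Set G) ≤ NA ⊔ NB := by
      rw [normalClosure, closure_le]
      intro x hx
      obtain ⟨k, hk, hkx⟩ := Group.mem_conjugatesOfSet_iff.1 hx
      obtain ⟨g, rfl⟩ := isConj_iff.1 hkx
      exact hcase _ ⟨g, rfl⟩ ⟨k, hk, rfl⟩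
    have hNAs : NA.IsSubnormal := Subnormal.isSubnormal_sSup fun L hL => (hCc L hL.1).1
    have hNBs : NB.IsSubnormal := Subnormal.isSubnormal_sSup fun L hL => (hCc L hL.1).1
    have hBA : NB ≤ normalizer (NA : Set G) := le_normalizer_sSup fun L hL =>
      sSup_le fun M hM => Components.IsComponent.le_normalizer (hCc M hM.1) (hCc L hL.1)
    refine (inf_le_inf_left _ hN).trans ((inf_sup_le_of_le_normalizer P hNAs hNBs hBA).trans ?_)
    exact sup_le_sup (inf_le_inf_left _ (sSup_le fun L hL => hL.2))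
      (inf_le_inf_left _ (sSup_le fun L hL => hL.2))

/-- A Sylow subgroup of a join of two subnormal subgroups is generated by Sylow subgroups of
these. -/
theorem inf_sup_eq (P : Sylow p G) {A B : Subgroup G} (hA : A.IsSubnormal) (hB : B.IsSubnormal) :
    (P : Subgroup G) ⊓ (A ⊔ B) = ((P : Subgroup G) ⊓ A) ⊔ ((P : Subgroup G) ⊓ B) :=
  le_antisymm (inf_sup_le_aux _ G rfl P A B hA hB)
    (sup_le (inf_le_inf_left _ le_sup_left) (inf_le_inf_left _ le_sup_right))

end Cfsg.Agent.SylowJoin
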