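import Cfsg.Agent.Lib.Subnormal.Zipper

/-!
# Generation by iterated commutators, Engel elements

* `commOp a x = x a x⁻¹ a⁻¹`
* `closure_iterate_eq_top`: if `a^G` generates `G` then `a` and the `k`-fold commutators `[x,a,...,a]` do
* `isSubnormal_zpowers_of_engel`: a left Engel element generates a subnormal subgroup
-/

set_option autoImplicit false

namespace Cfsg.Agent.Subnormal

universe u

variable {G : Type u} [Group G]

/-- The commutator `[x, a] = x a x⁻¹ a⁻¹`. -/
def commOp (a x : G) : G := x * a * x⁻¹ * a⁻¹

theorem commOp_one (a : G) : commOp a 1 = 1 := by simp [commOp]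

theorem map_commOp {G' : Type*} [Group G'] (f : G →* G') (a x : G) :
    f (commOp a x) = commOp (f a) (f x) := by simp [commOp]

theorem map_iterate_commOp {G' : Type*} [Group G'] (f : G →* G') (a : G) (k : ℕ) (x : G) :
    f ((commOp a)^[k] x) = (commOp (f a))^[k] (f x) := by
  induction k generalizing x with
  | zero => rfl
  | succ k ih => rw [Function.iterate_succ_apply, Function.iterate_succ_apply, ih, map_commOp]

theorem normalClosure_zpowers (a : G) :
    Subgroup.normalClosure (Subgroup.zpowers a : Set G) = Subgroup.normalClosure {a} := by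
  refine le_antisymm (Subgroup.normalClosure_le_normal ?_) (Subgroup.normalClosure_mono ?_)
  · exact SetLike.coe_subset_coe.mpr
      (Subgroup.zpowers_le.mpr (Subgroup.subset_normalClosure (Set.mem_singleton a)))
  · simp

theorem closure_iterate_eq_top [Finite G] (a : G) (hgen : Subgroup.normalClosure {a} = ⊤) (k : ℕ) :
    Subgroup.closure (insert a (Set.range ((commOp a)^[k]))) = ⊤ := by
  suffices key : ∀ n, ∀ (G : Type u) [Group G] [Finite G], Nat.card G = n → ∀ a : G,
      Subgroup.normalClosure {a} = ⊤ →
      Subgroup.closure (insert a (Set.range ((commOp a)^[k]))) = ⊤ from key _ G rfl a hgen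
  clear hgen a
  intro n
  induction n using Nat.strong_induction_on with
  | _ n ih =>
    intro G _ _ hn a hgen
    by_contra hne
    set H := Subgroup.closure (insert a (Set.range ((commOp a)^[k]))) with hH
    have haH : a ∈ H := Subgroup.subset_closure (Set.mem_insert _ _)
    set A := Subgroup.zpowers a with hA
    have hgenA : Subgroup.normalClosure (A : Set G) = ⊤ := by rw [normalClosure_zpowers, hgen]
    obtain ⟨M, hM, hHM⟩ := (eq_top_or_exists_le_coatom H).resolve_left hne
    have hY : sSup (genBy A) ≠ ⊤ := by
      refine fun h => hne (top_unique (h ▸ sSup_le ?_))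
      rintro W ⟨hAW, hW, hcl⟩
      have haW : a ∈ W := hAW (Subgroup.mem_zpowers a)
      have hgenW : Subgroup.normalClosure {(⟨a, haW⟩ : ↥W)} = ⊤ := by
        have he : A.subgroupOf W = Subgroup.zpowers (⟨a, haW⟩ : ↥W) := by
          refine Subgroup.map_injective W.subtype_injective ?_
          rw [Subgroup.map_subgroupOf_eq_of_le hAW, MonoidHom.map_zpowers]
          rfl
        rw [← normalClosure_zpowers, ← he]
        refine Subgroup.map_injective W.subtype_injective ?_
        rw [map_subtype_normalClosure hAW, hcl, ← MonoidHom.range_eq_map, Subgroup.range_subtype]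
      have hlt : Nat.card ↥W < n := by
        refine hn ▸ lt_of_le_of_ne (Subgroup.card_le_card_group W) fun he => hW ?_
        exact Subgroup.eq_top_of_card_eq _ he
      have h1 := ih _ hlt ↥W rfl ⟨a, haW⟩ hgenW
      intro x hx
      have h2 : (⟨x, hx⟩ : ↥W) ∈ H.comap W.subtype := by
        refine Subgroup.closure_le (H.comap W.subtype) |>.mpr ?_ (h1 ▸ Subgroup.mem_top _)
        rintro _ (rfl | ⟨y, rfl⟩)
        · exact haH
        · rw [SetLike.mem_coe, Subgroup.mem_comap, map_iterate_commOp]
          exact Subgroup.subset_closure (Set.mem_insert_of_mem _ ⟨_, rfl⟩)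
      exact h2
    have huniq := coatom_unique_of_join hgenA hY
    have hAM : A ≤ M := Subgroup.zpowers_le.mpr (hHM haH)
    have hstep : ∀ (j : ℕ) (x : G), (commOp a)^[j] x ∈ M → x ∈ M := by
      intro j
      induction j with
      | zero => exact fun x h => h
      | succ j ihj =>
        intro x hx
        rw [Function.iterate_succ_apply] at hx
        have h1 : x * a * x⁻¹ * a⁻¹ ∈ M := ihj _ hx
        have h2 : x * a * x⁻¹ ∈ M := (mul_mem_cancel_right (M.inv_mem (hHM haH))).mp h1
        have h3 : A ≤ cj x⁻¹ M := Subgroup.zpowers_le.mpr (mem_cj.mpr (by simpa using h2))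
        have h4 := huniq _ _ (isCoatom_cj hM x⁻¹) hM h3 hAM
        exact inv_mem_iff.mp (mem_of_cj_eq hgenA hM hAM h4)
    exact hM.1 (top_unique fun x _ => hstep k x
      (hHM (Subgroup.subset_closure (Set.mem_insert_of_mem _ ⟨x, rfl⟩))))

/-- A left Engel element generates a subnormal subgroup. -/
theorem isSubnormal_zpowers_of_engel [Finite G] (a : G)
    (h : ∀ x : G, ∃ n : ℕ, (commOp a)^[n] x = 1) : (Subgroup.zpowers a).IsSubnormal := by
  obtain ⟨N, hN⟩ : ∃ N, ∀ x : G, (commOp a)^[N] x = 1 := by
    choose f hf using h
    have := Fintype.ofFinite G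
    refine ⟨Finset.univ.sup f, fun x => ?_⟩
    obtain ⟨d, hd⟩ := Nat.exists_eq_add_of_le (Finset.le_sup (f := f) (Finset.mem_univ x))
    rw [hd, add_comm, Function.iterate_add_apply, hf]
    exact Function.iterate_fixed (commOp_one a) d
  rw [← sn_top_iff]
  suffices key : ∀ n, ∀ W : Subgroup G, Nat.card ↥W = n → Subgroup.zpowers a ≤ W →
      SN (Subgroup.zpowers a) W from key _ ⊤ rfl le_top
  intro n
  induction n using Nat.strong_induction_on with
  | _ n ih =>
    intro W hn hAW
    set A := Subgroup.zpowers a with hA
    by_cases hC : cl W A = W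
    · have haW : a ∈ W := hAW (Subgroup.mem_zpowers a)
      have he : A.subgroupOf W = Subgroup.zpowers (⟨a, haW⟩ : ↥W) := by
        refine Subgroup.map_injective W.subtype_injective ?_
        rw [Subgroup.map_subgroupOf_eq_of_le hAW, MonoidHom.map_zpowers]
        rfl
      have hgenW : Subgroup.normalClosure {(⟨a, haW⟩ : ↥W)} = ⊤ := by
        rw [← normalClosure_zpowers, ← he]
        refine Subgroup.map_injective W.subtype_injective ?_
        rw [map_subtype_normalClosure hAW, hC, ← MonoidHom.range_eq_map, Subgroup.range_subtype]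
      have h1 := closure_iterate_eq_top _ hgenW N
      refine ⟨hAW, ?_⟩
      suffices ht : A.subgroupOf W = ⊤ by rw [ht]; exact Subgroup.IsSubnormal.top
      rw [he]
      refine top_unique (h1 ▸ (Subgroup.closure_le _).mpr ?_)
      rintro _ (rfl | ⟨y, rfl⟩)
      · exact Subgroup.mem_zpowers _
      · have : (commOp (⟨a, haW⟩ : ↥W))^[N] y = 1 :=
          W.subtype_injective (by rw [map_iterate_commOp]; simpa using hN y)
        rw [SetLike.mem_coe, this]
        exact one_mem _
    · have hle := cl_le hAW
      have hlt : Nat.card ↥(cl W A) < n := by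
        by_contra! hcon
        exact hC (Subgroup.eq_of_le_of_card_ge hle (hn ▸ hcon))
      exact sn_trans (ih _ hlt _ rfl (le_cl W A)) (sn_of_le_of_normalizer hle (le_normalizer_cl W A))

end Cfsg.Agent.Subnormal
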