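import Cfsg.Agent.Lib.Subnormal.Join

/-!
# A zipper lemma

`coatom_unique`: if the normal closure of `A` is `G` and `A` fails to be subnormal in at most one
maximal subgroup containing it, then `A` lies in at most one maximal subgroup.

`coatom_unique_of_join`: if moreover the join `Y` of the proper subgroups `H ≥ A` with `A^H = H` is proper,
then `A` lies in at most one maximal subgroup.
-/

set_option autoImplicit false

namespace Cfsg.Agent.Subnormal

variable {G : Type*} [Group G]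

/-- The `G`-conjugates of `A` contained in `P ⊓ R`. -/
def conjsIn (A P R : Subgroup G) : Set (Subgroup G) :=
  {a | (∃ g, a = cj g A) ∧ a ≤ P ∧ a ≤ R}

theorem normalClosure_cj {A : Subgroup G} (hgen : Subgroup.normalClosure (A : Set G) = ⊤) (g : G) :
    Subgroup.normalClosure (cj g A : Set G) = ⊤ := by
  refine top_unique (hgen ▸ Subgroup.normalClosure_le_normal fun a ha => ?_)
  have h : g * a * g⁻¹ ∈ Subgroup.normalClosure (cj g A : Set G) :=
    Subgroup.subset_normalClosure (conj_mem_cj ha)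
  have := Subgroup.normalClosure_normal.conj_mem _ h g⁻¹
  simpa [mul_assoc] using this

theorem eq_top_of_normal_of_le {A N : Subgroup G} (hgen : Subgroup.normalClosure (A : Set G) = ⊤)
    (hN : N.Normal) (hle : A ≤ N) : N = ⊤ :=
  top_unique (hgen ▸ Subgroup.normalClosure_le_normal hle)

theorem mem_of_cj_eq {A P : Subgroup G} (hgen : Subgroup.normalClosure (A : Set G) = ⊤)
    (hP : IsCoatom P) (hle : A ≤ P) {x : G} (hx : cj x P = P) : x ∈ P := by
  have hxn := mem_normalizer_of_cj_eq hx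
  rcases eq_or_lt_of_le (Subgroup.le_normalizer : P ≤ Subgroup.normalizer (P : Set G)) with h | h
  · rwa [← h] at hxn
  · exact absurd (eq_top_of_normal_of_le hgen (Subgroup.normalizer_eq_top_iff.mp (hP.2 _ h)) hle) hP.1

theorem isCoatom_cj {P : Subgroup G} (hP : IsCoatom P) (g : G) : IsCoatom (cj g P) := by
  refine ⟨fun h => hP.1 ?_, fun Q hQ => ?_⟩
  · rw [← cj_inv_cj g P, h]
    exact top_unique fun x _ => mem_cj.mpr (Subgroup.mem_top _)
  · have h1 : P < cj g⁻¹ Q := by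
      refine lt_of_le_of_ne ((cj_inv_cj g P).ge.trans (cj_mono hQ.le)) fun he => hQ.ne ?_
      rw [he, cj_cj_inv]
    rw [← cj_cj_inv g Q, hP.2 _ h1]
    exact top_unique fun x _ => mem_cj.mpr (Subgroup.mem_top _)

variable [Finite G]

/-- If `A` fails to be subnormal in at most one maximal subgroup containing it and `A^G = G`,
then `A` lies in at most one maximal subgroup. -/
theorem coatom_unique {A : Subgroup G} (hgen : Subgroup.normalClosure (A : Set G) = ⊤)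
    (huniq : ∀ P Q : Subgroup G, IsCoatom P → IsCoatom Q → A ≤ P → A ≤ Q →
      ¬ SN A P → ¬ SN A Q → P = Q) :
    ∀ P Q : Subgroup G, IsCoatom P → IsCoatom Q → A ≤ P → A ≤ Q → P = Q := by
  classical
  suffices key : ∀ n, ∀ A : Subgroup G, Nat.card G - Nat.card ↥A = n →
      Subgroup.normalClosure (A : Set G) = ⊤ →
      (∀ P Q : Subgroup G, IsCoatom P → IsCoatom Q → A ≤ P → A ≤ Q →
        ¬ SN A P → ¬ SN A Q → P = Q) →
      ∀ P Q : Subgroup G, IsCoatom P → IsCoatom Q → A ≤ P → A ≤ Q → P = Q from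
    key _ A rfl hgen huniq
  clear A hgen huniq
  intro n
  induction n using Nat.strong_induction_on with
  | _ n ih =>
  intro A hn hgen huniq P₀ Q₀ hP₀ hQ₀ hAP₀ hAQ₀
  by_contra hne₀
  -- exceptional maximal subgroups of a conjugate are unique
  have huniq' : ∀ g, ∀ P Q : Subgroup G, IsCoatom P → IsCoatom Q → cj g A ≤ P → cj g A ≤ Q →
      ¬ SN (cj g A) P → ¬ SN (cj g A) Q → P = Q := by
    intro g P Q hP hQ h1 h2 h3 h4
    have key : ∀ R : Subgroup G, cj g A ≤ R → ¬ SN (cj g A) R →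
        A ≤ cj g⁻¹ R ∧ ¬ SN A (cj g⁻¹ R) := fun R h h' =>
      ⟨(cj_inv_cj g A).ge.trans (cj_mono h), fun hh => h' (by simpa [cj_cj_inv] using sn_cj g hh)⟩
    exact cj_injective g⁻¹ (huniq _ _ (isCoatom_cj hP _) (isCoatom_cj hQ _)
      (key P h1 h3).1 (key Q h2 h4).1 (key P h1 h3).2 (key Q h2 h4).2)
  have sn_conj : ∀ {a : Subgroup G} {Q : Subgroup G} {z : G}, z ∈ Q → SN a Q → SN (cj z a) Q := by
    intro a Q z hz h
    have := sn_cj z h
    rwa [cj_eq_of_mem hz] at this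
  -- pairwise lemma
  have pair : ∀ P R : Subgroup G, IsCoatom P → IsCoatom R → P ≠ R →
      ∀ a ∈ conjsIn A P R, ∀ b ∈ conjsIn A P R, a ≠ b →
      (∃ Q, IsCoatom Q ∧ a ≤ Q ∧ b ≤ Q ∧ ¬ SN a Q) ∧
      ∀ Q, IsCoatom Q → a ≤ Q → ¬ SN a Q → b ≤ Q := by
    rintro P R hP hR hPR a ⟨⟨g, rfl⟩, haP, haR⟩ b ⟨⟨h, rfl⟩, hbP, hbR⟩ hab
    set a := cj g A with ha
    set b := cj h A with hb
    have hS : ¬ ∀ Q₁ Q₂ : Subgroup G, IsCoatom Q₁ → IsCoatom Q₂ → a ⊔ b ≤ Q₁ → a ⊔ b ≤ Q₂ →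
        ¬ SN (a ⊔ b) Q₁ → ¬ SN (a ⊔ b) Q₂ → Q₁ = Q₂ := by
      intro hh
      have hlt : a < a ⊔ b := by
        refine lt_of_le_of_ne le_sup_left fun he => hab (Subgroup.eq_of_le_of_card_ge ?_ ?_).symm
        · exact le_sup_right.trans he.ge
        · rw [card_cj, card_cj]
      have hgen' : Subgroup.normalClosure ((a ⊔ b : Subgroup G) : Set G) = ⊤ :=
        top_unique ((normalClosure_cj hgen g).ge.trans
          (Subgroup.normalClosure_mono (SetLike.coe_subset_coe.mpr le_sup_left)))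
      refine hPR (ih _ ?_ (a ⊔ b) rfl hgen' hh P R hP hR (sup_le haP hbP) (sup_le haR hbR))
      have h1 : Nat.card ↥a < Nat.card ↥(a ⊔ b) := by
        by_contra! hcon
        exact hlt.ne (Subgroup.eq_of_le_of_card_ge hlt.le hcon)
      have h2 := Subgroup.card_le_card_group (a ⊔ b)
      rw [ha, card_cj, ← ha] at h1
      omega
    push Not at hS
    obtain ⟨Q₁, Q₂, hQ₁, hQ₂, h1, h2, e1, e2, hne⟩ := hS
    have ha1 := le_sup_left.trans h1
    have hb1 := le_sup_right.trans h1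
    have ha2 := le_sup_left.trans h2
    have hb2 := le_sup_right.trans h2
    have hor : ∀ Q, ¬ SN (a ⊔ b) Q → ¬ SN a Q ∨ ¬ SN b Q := fun Q he => by
      by_contra! hc
      exact he (sn_sup hc.1 hc.2)
    obtain ⟨Q, hQ, haQ, hbQ, hex⟩ : ∃ Q, IsCoatom Q ∧ a ≤ Q ∧ b ≤ Q ∧ ¬ SN a Q := by
      rcases hor _ e1 with h' | h'
      · exact ⟨Q₁, hQ₁, ha1, hb1, h'⟩
      rcases hor _ e2 with h'' | h''
      · exact ⟨Q₂, hQ₂, ha2, hb2, h''⟩
      exact absurd (huniq' h _ _ hQ₁ hQ₂ hb1 hb2 h' h'') hne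
    exact ⟨⟨Q, hQ, haQ, hbQ, hex⟩, fun Q' hQ' haQ' hex' =>
      huniq' g Q Q' hQ hQ' haQ haQ' hex hex' ▸ hbQ⟩
  -- a pair of maximal subgroups with a largest set of common conjugates
  have : Nonempty {x : Subgroup G × Subgroup G //
      IsCoatom x.1 ∧ IsCoatom x.2 ∧ x.1 ≠ x.2 ∧ (conjsIn A x.1 x.2).Nonempty} :=
    ⟨⟨(P₀, Q₀), hP₀, hQ₀, hne₀, ⟨A, ⟨1, (cj_one A).symm⟩, hAP₀, hAQ₀⟩⟩⟩
  obtain ⟨⟨⟨P₁, R₁⟩, hP₁, hR₁, hPR₁, hne₁⟩, hmax⟩ :=
    Finite.exists_max (fun x : {x : Subgroup G × Subgroup G //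
      IsCoatom x.1 ∧ IsCoatom x.2 ∧ x.1 ≠ x.2 ∧ (conjsIn A x.1 x.2).Nonempty} =>
        (conjsIn A x.1.1 x.1.2).ncard)
  obtain ⟨K, hK⟩ : ∃ K : Set (Subgroup G), K = conjsIn A P₁ R₁ := ⟨_, rfl⟩
  rw [← hK] at hne₁
  simp only [← hK] at hmax
  have hnorm : P₁ ⊓ R₁ ≤ Subgroup.normalizer ((sSup K : Subgroup G) : Set G) := by
    intro x hx
    refine mem_normalizer_of_cj_le ?_
    rw [cj, Subgroup.map_le_iff_le_comap]
    refine sSup_le fun a ha => Subgroup.map_le_iff_le_comap.mp (le_sSup ?_)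
    rw [hK] at ha ⊢
    obtain ⟨⟨g, rfl⟩, h1, h2⟩ := ha
    exact ⟨⟨x * g, (cj_mul x g A).symm⟩, (cj_mono h1).trans (cj_eq_of_mem hx.1).le,
      (cj_mono h2).trans (cj_eq_of_mem hx.2).le⟩
  obtain ⟨a₀, ha₀⟩ := hne₁
  have ha₀' : a₀ ∈ conjsIn A P₁ R₁ := hK ▸ ha₀
  obtain ⟨⟨g₀, hg₀⟩, ha₀P, -⟩ := ha₀'
  have hNne : Subgroup.normalizer ((sSup K : Subgroup G) : Set G) ≠ ⊤ := by
    intro ht
    have h1 : (sSup K : Subgroup G) = ⊤ :=
      eq_top_of_normal_of_le (normalClosure_cj hgen g₀) (Subgroup.normalizer_eq_top_iff.mp ht)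
        (hg₀ ▸ le_sSup ha₀)
    refine hP₁.1 (top_unique (h1 ▸ sSup_le fun a ha => ?_))
    rw [hK] at ha
    exact ha.2.1
  obtain ⟨R, hR, hNR⟩ := (eq_top_or_exists_le_coatom _).resolve_left hNne
  obtain ⟨P, hP, hPR, hsub, hinter⟩ : ∃ P, IsCoatom P ∧ P ≠ R ∧
      (∀ a ∈ K, a ≤ P) ∧ (∀ a ∈ K, a ≤ R) := by
    have hRK : ∀ a ∈ K, a ≤ R :=
      fun a ha => (le_sSup ha).trans (Subgroup.le_normalizer.trans hNR)
    by_cases h : P₁ = R
    · exact ⟨R₁, hR₁, fun e => hPR₁ (h.trans e.symm),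
        fun a ha => (hK ▸ ha : a ∈ conjsIn A P₁ R₁).2.2, hRK⟩
    · exact ⟨P₁, hP₁, h, fun a ha => (hK ▸ ha : a ∈ conjsIn A P₁ R₁).2.1, hRK⟩
  have hKmax : ∀ X Y : Subgroup G, IsCoatom X → IsCoatom Y → X ≠ Y →
      (∀ a ∈ K, a ≤ X) → (∀ a ∈ K, a ≤ Y) → conjsIn A X Y = K := by
    intro X Y hX hY hXY h1 h2
    have hs : K ⊆ conjsIn A X Y := fun a ha =>
      ⟨(hK ▸ ha : a ∈ conjsIn A P₁ R₁).1, h1 a ha, h2 a ha⟩
    exact (Set.eq_of_subset_of_ncard_le hs
      (hmax ⟨(X, Y), hX, hY, hXY, ⟨a₀, hs ha₀⟩⟩) (Set.toFinite _)).symm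
  have hKPR : conjsIn A P R = K := hKmax P R hP hR hPR hsub hinter
  have hmem : ∀ z : G, ∀ a ∈ K, cj z a ≤ P → cj z a ≤ R → cj z a ∈ K := by
    intro z a ha h1 h2
    obtain ⟨g, rfl⟩ := (hK ▸ ha : a ∈ conjsIn A P₁ R₁).1
    rw [← hKPR]
    exact ⟨⟨z * g, (cj_mul z g A).symm⟩, h1, h2⟩
  have hcjle : ∀ (z : G) (S T : Set (Subgroup G)), (∀ a ∈ S, cj z a ∈ T) →
      cj z (sSup S) ≤ sSup T := fun z S T h => by
    rw [cj, Subgroup.map_le_iff_le_comap]
    exact sSup_le fun a ha => Subgroup.map_le_iff_le_comap.mp (le_sSup (h a ha))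
  have hnP : ¬ P ≤ Subgroup.normalizer ((sSup K : Subgroup G) : Set G) := fun h =>
    hPR ((eq_or_lt_of_le (h.trans hNR)).resolve_right fun hlt => hR.1 (hP.2 _ hlt))
  -- some member of `K` is exceptional in `P`
  have hexc : ∃ a ∈ K, ¬ SN a P := by
    by_contra! hall
    obtain ⟨z, -, hz1, hz2⟩ := exists_cj_of_not_le_normalizer (sn_sSup hall) hnP
    refine hz1 (eq_of_cj_le (hcjle z K K fun a ha => hmem z a ha ?_ ?_))
    · exact (cj_mono (le_sSup ha)).trans (hz2.trans inf_le_right)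
    · exact (cj_mono (le_sSup ha)).trans (hz2.trans (inf_le_left.trans hNR))
  set F : Set (Subgroup G) := {b | b ∈ K ∧ SN b P} with hF
  by_cases hFne : F.Nonempty
  · -- there is `z` normalising the join of `F` but not the join of `K`
    obtain ⟨z, hzP, hzF, hzK⟩ : ∃ z ∈ P, z ∈ Subgroup.normalizer ((sSup F : Subgroup G) : Set G) ∧
        z ∉ Subgroup.normalizer ((sSup K : Subgroup G) : Set G) := by
      by_contra! hall
      have hnF : ¬ P ≤ Subgroup.normalizer ((sSup F : Subgroup G) : Set G) :=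
        fun h => hnP fun x hx => hall x hx (h hx)
      obtain ⟨z, hzP, hz1, hz2⟩ := exists_cj_of_not_le_normalizer (sn_sSup fun b hb => hb.2) hnF
      refine hz1 (eq_of_cj_le (hcjle z F F fun b hb => ⟨hmem z b hb.1 ?_ ?_, sn_conj hzP hb.2⟩))
      · exact (cj_mono (le_sSup hb)).trans (hz2.trans inf_le_right)
      · refine fun x hx => hNR ?_
        have := hz2 (cj_mono (le_sSup hb) hx)
        exact hall x this.2 this.1
    have hperm : ∀ b ∈ F, cj z b ∈ F := by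
      intro b hb
      have h1 : cj z b ≤ sSup F :=
        (cj_mono (le_sSup hb)).trans (cj_eq_of_mem_normalizer hzF).le
      exact ⟨hmem z b hb.1 ((cj_mono (hsub b hb.1)).trans (cj_eq_of_mem hzP).le)
        (h1.trans (sSup_le fun c hc => hinter c hc.1)), sn_conj hzP hb.2⟩
    obtain ⟨b, hb⟩ := hFne
    obtain ⟨a, ha, haexc⟩ := hexc
    have hcontains : ∀ c ∈ F, ∀ Q, IsCoatom Q → c ≤ Q → ¬ SN c Q → ∀ k ∈ K, k ≤ Q := by
      intro c hc Q hQ hcQ hce k hk
      rcases eq_or_ne c k with rfl | hck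
      · exact hcQ
      · exact (pair P R hP hR hPR c (hKPR.symm ▸ hc.1) k (hKPR.symm ▸ hk) hck).2 Q hQ hcQ hce
    have hba : b ≠ a := fun he => haexc (he ▸ hb.2)
    obtain ⟨Q, hQ, hbQ, -, hbe⟩ :=
      (pair P R hP hR hPR b (hKPR.symm ▸ hb.1) a (hKPR.symm ▸ ha) hba).1
    have hbe' : ¬ SN (cj z b) (cj z Q) := fun h => hbe (by
      have := sn_cj z⁻¹ h
      rwa [cj_inv_cj, cj_inv_cj] at this)
    have hne : P ≠ cj z Q := fun he => hbe' (he ▸ (hperm b hb).2)
    have hK' : conjsIn A P (cj z Q) = K :=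
      hKmax P _ hP (isCoatom_cj hQ z) hne hsub
        (hcontains _ (hperm b hb) _ (isCoatom_cj hQ z) (cj_mono hbQ) hbe')
    refine hzK (mem_normalizer_of_cj_le (hcjle z K K fun k hk => ?_))
    obtain ⟨g, rfl⟩ := (hK ▸ hk : k ∈ conjsIn A P₁ R₁).1
    rw [← hK']
    exact ⟨⟨z * g, (cj_mul z g A).symm⟩, (cj_mono (hsub _ hk)).trans (cj_eq_of_mem hzP).le,
      cj_mono (hcontains b hb Q hQ hbQ hbe _ hk)⟩
  · -- all members of `K` are exceptional in `P`, hence subnormal in `R`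
    have hallP : ∀ a ∈ K, ¬ SN a P := fun a ha h => hFne ⟨a, ha, h⟩
    have hallR : ∀ a ∈ K, SN a R := fun a ha => by
      by_contra hh
      obtain ⟨g, rfl⟩ := (hK ▸ ha : a ∈ conjsIn A P₁ R₁).1
      exact hPR (huniq' g P R hP hR (hsub _ ha) (hinter _ ha) (hallP _ ha) hh)
    have hNP : Subgroup.normalizer ((sSup K : Subgroup G) : Set G) ≤ P := by
      intro x hx
      have h1 : cj x a₀ ≤ sSup K := (cj_mono (le_sSup ha₀)).trans (cj_eq_of_mem_normalizer hx).le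
      have h2 : cj x a₀ ∈ K :=
        hmem x a₀ ha₀ (h1.trans (sSup_le hsub)) (h1.trans (sSup_le hinter))
      obtain ⟨g, hg⟩ := (hK ▸ h2 : cj x a₀ ∈ conjsIn A P₁ R₁).1
      have hexc' : ¬ SN (cj x a₀) (cj x P) := fun h => hallP a₀ ha₀ (by
        have := sn_cj x⁻¹ h
        rwa [cj_inv_cj, cj_inv_cj] at this)
      have hexc'' := hallP _ h2
      have hleP := hsub _ h2
      have hleX := cj_mono (g := x) (hsub a₀ ha₀)
      rw [hg] at hexc' hexc'' hleP hleX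
      exact mem_of_cj_eq (normalClosure_cj hgen g₀) hP (hg₀ ▸ hsub a₀ ha₀)
        (huniq' g _ _ (isCoatom_cj hP x) hP hleX hleP hexc' hexc'')
    have hnR : ¬ R ≤ Subgroup.normalizer ((sSup K : Subgroup G) : Set G) := fun h =>
      hPR ((eq_or_lt_of_le (h.trans hNP)).resolve_right fun hlt => hP.1 (hR.2 _ hlt)).symm
    obtain ⟨z, -, hz1, hz2⟩ := exists_cj_of_not_le_normalizer (sn_sSup hallR) hnR
    refine hz1 (eq_of_cj_le (hcjle z K K fun a ha => hmem z a ha ?_ ?_))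
    · exact (cj_mono (le_sSup ha)).trans (hz2.trans (inf_le_left.trans hNP))
    · exact (cj_mono (le_sSup ha)).trans (hz2.trans inf_le_right)

/-- The proper subgroups `H ≥ A` generated by their conjugates of `A`. -/
def genBy (A : Subgroup G) : Set (Subgroup G) := {H | A ≤ H ∧ H ≠ ⊤ ∧ cl H A = H}

theorem exists_genBy_of_not_sn {A : Subgroup G} : ∀ {Q : Subgroup G}, A ≤ Q → Q ≠ ⊤ → ¬ SN A Q →
    ∃ B ∈ genBy A, A < B ∧ B ≤ Q := by
  suffices key : ∀ n, ∀ Q : Subgroup G, Nat.card ↥Q = n → A ≤ Q → Q ≠ ⊤ → ¬ SN A Q →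
      ∃ B ∈ genBy A, A < B ∧ B ≤ Q from fun {Q} => key _ Q rfl
  intro n
  induction n using Nat.strong_induction_on with
  | _ n ih =>
    intro Q hn hAQ hQ hsn
    by_cases hC : cl Q A = Q
    · exact ⟨Q, ⟨hAQ, hQ, hC⟩, lt_of_le_of_ne hAQ fun h => hsn (h ▸ sn_refl A), le_rfl⟩
    · have hle := cl_le hAQ
      have hlt : Nat.card ↥(cl Q A) < n := by
        by_contra! hcon
        exact hC (Subgroup.eq_of_le_of_card_ge hle (hn ▸ hcon))
      obtain ⟨B, hB, hAB, hBC⟩ := ih _ hlt (cl Q A) rfl (le_cl Q A)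
        (fun h => hQ (top_unique (h ▸ hle)))
        (fun h => hsn (sn_trans h (sn_of_le_of_normalizer hle (le_normalizer_cl Q A))))
      exact ⟨B, hB, hAB, hBC.trans hle⟩

/-- The variant of the zipper lemma used for generation by iterated commutators. -/
theorem coatom_unique_of_join {A : Subgroup G} (hgen : Subgroup.normalClosure (A : Set G) = ⊤)
    (hY : sSup (genBy A) ≠ ⊤) :
    ∀ P Q : Subgroup G, IsCoatom P → IsCoatom Q → A ≤ P → A ≤ Q → P = Q := by
  suffices key : ∀ n, ∀ A : Subgroup G, Nat.card G - Nat.card ↥A = n →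
      Subgroup.normalClosure (A : Set G) = ⊤ → sSup (genBy A) ≠ ⊤ →
      ∀ P Q : Subgroup G, IsCoatom P → IsCoatom Q → A ≤ P → A ≤ Q → P = Q from key _ A rfl hgen hY
  clear A hgen hY
  intro n
  induction n using Nat.strong_induction_on with
  | _ n ih =>
    intro A hn hgen hY
    obtain ⟨M, hM, hYM⟩ := (eq_top_or_exists_le_coatom _).resolve_left hY
    refine coatom_unique hgen fun P Q hP hQ hAP hAQ hPe hQe => ?_
    suffices h : ∀ X : Subgroup G, IsCoatom X → A ≤ X → ¬ SN A X → X = M by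
      rw [h P hP hAP hPe, h Q hQ hAQ hQe]
    intro X hX hAX hXe
    obtain ⟨B, hB, hAB, hBX⟩ := exists_genBy_of_not_sn hAX hX.1 hXe
    have hgenB : Subgroup.normalClosure (B : Set G) = ⊤ :=
      top_unique (hgen ▸ Subgroup.normalClosure_mono (SetLike.coe_subset_coe.mpr hAB.le))
    have hsub : genBy B ⊆ genBy A := by
      rintro H ⟨hBH, hH, hcl⟩
      refine ⟨hAB.le.trans hBH, hH, le_antisymm (cl_le (hAB.le.trans hBH)) ?_⟩
      have hB' : B ≤ cl H A := by
        rw [← hB.2.2]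
        exact cl_mono hBH le_rfl
      calc H = cl H B := hcl.symm
        _ ≤ cl H A := cl_le_of fun w hw =>
          (cj_mono hB').trans (cj_eq_of_mem_normalizer (le_normalizer_cl H A hw)).le
    refine ih _ ?_ B rfl hgenB (fun h => hY (top_unique (h ▸ sSup_le_sSup hsub))) X M hX hM hBX
      ((le_sSup hB).trans hYM)
    have h1 : Nat.card ↥A < Nat.card ↥B := by
      by_contra! hcon
      exact hAB.ne (Subgroup.eq_of_le_of_card_ge hAB.le hcon)
    have h2 := Subgroup.card_le_card_group B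
    omega

end Cfsg.Agent.Subnormal
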